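import Cfsg.Agent.H904.SV.ThClasses

/-!
# `Th`: the classes of elements of even order, I (helper752)

Elements `y` of `C = C(a) = 2^{1+8}.A₉` with a power equal to `a`: words for the classes 12A, 12B, 18A, 18B, 24A-24D,
36A-36C.
-/

set_option autoImplicit false
set_option maxRecDepth 100000
set_option linter.unusedSectionVars false

namespace Cfsg.Agent.H752.ThCl

open Subgroup Cfsg Cfsg.Agent.H713 Cfsg.Agent.H665.NoPQ
open Cfsg.Agent.Th.Base Cfsg.Agent.Th.Word Cfsg.Agent.Th.RelWords Cfsg.Agent.Th.PermTab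
  Cfsg.Agent.Th.KOracle Cfsg.Agent.Th.KPerm Cfsg.Agent.Th.NineAct Cfsg.Agent.Th.CStruct
  Cfsg.Agent.Th.COracleDef Cfsg.Agent.Th.COracleSound
open Cfsg.Agent.KFacts.Th.Mask Cfsg.Agent.KFacts.Th.Struct
open Cfsg.Agent.CpAutTh.Data Cfsg.Agent.CpAutTh.Alt Cfsg.Agent.CpAutTh.Local Cfsg.Agent.CpAutTh.ThreePerm Cfsg.Agent.CpAutTh.ThreeE
open Cfsg.Agent.CpAutTh.Mid Cfsg.Agent.H723.Spor.ThMix

universe u v

/-! ### Generalities -/

/-- counting classes by orders -/
theorem count {G : Type u} [Group G] [Finite G] (D : Finset ℕ) (n : ℕ → ℕ)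
    (hf : ∀ d ∈ D, ∃ g : Fin (n d) → G, (∀ i, orderOf (g i) = d) ∧
      ∀ i j, IsConj (g i) (g j) → i = j) : ∑ d ∈ D, n d ≤ Nat.card (ConjClasses G) := by
  classical
  choose g hg using hf
  let F : (Σ d : D, Fin (n d)) → ConjClasses G := fun p => ConjClasses.mk (g p.1.1 p.1.2 p.2)
  have hF : Function.Injective F := by
    rintro ⟨⟨d, hd⟩, i⟩ ⟨⟨e, he⟩, j⟩ h
    have h1 : IsConj (g d hd i) (g e he j) := ConjClasses.mk_eq_mk_iff_isConj.1 h
    have h2 : d = e := by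
      rw [← (hg d hd).1 i, ← (hg e he).1 j]
      exact H419.Count.orderOf_eq_of_isConj h1
    subst h2
    have h3 := (hg d hd).2 i j h1
    subst h3
    rfl
  have h1 := Nat.card_le_card_of_injective F hF
  rw [Nat.card_sigma] at h1
  simp only [Nat.card_eq_fintype_card, Fintype.card_fin] at h1
  rw [Finset.sum_coe_sort D n] at h1
  exact h1

/-- the centralizer of an element is generated by it -/
theorem eq_zpow {A : Type u} [Group A] [Finite A] {τ c : A}
    (hcard : Nat.card ↥(centralizer ({τ} : Set A)) ≤ orderOf τ) (hc : c * τ = τ * c) :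
    ∃ k : ℤ, c = τ ^ k := by
  have h1 : zpowers τ = centralizer ({τ} : Set A) := by
    refine Subgroup.eq_of_le_of_card_ge ?_ ?_
    · rw [zpowers_le, mem_centralizer_singleton_iff]
    · rw [Nat.card_zpowers]; exact hcard
  have h2 : c ∈ zpowers τ := by
    rw [h1, mem_centralizer_singleton_iff]
    exact hc
  obtain ⟨k, hk⟩ := mem_zpowers_iff.1 h2
  exact ⟨k, hk.symm⟩

section

variable {G : Type u} [Group G] {γ : ℕ → G} (h : Ctx γ)
include h

theorem ev_eq {X Y : List ℕ} (hw : corc (X ++ iw Y) = true) : ev γ X = ev γ Y := by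
  have h1 := ev_one h hw
  rw [ev_append, ev_iw h.inv] at h1
  exact mul_inv_eq_one.1 h1

theorem pow_eq {X Y : List ℕ} {m : ℕ} (hw : corc (pw X m ++ iw Y) = true) : ev γ X ^ m = ev γ Y := by
  rw [← ev_pw]
  exact ev_eq h hw

theorem pow_a' {X : List ℕ} {m : ℕ} (hw : corc (pw X m ++ [1]) = true) : ev γ X ^ m = γ 1 := by
  have h2 := ev_one h hw
  rw [ev_append, ev_pw, ev_singleton] at h2
  rw [eq_inv_of_mul_eq_one_left h2]
  exact inv_eq_of_mul_eq_one_left h.aa

/-- conjugate elements with a common power `a` are conjugate in `C` -/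
theorem conj_C {x y : G} {m : ℕ} (hx : x ^ m = γ 1) (hy : y ^ m = γ 1) (hc : IsConj x y) :
    ∃ g : sub γ isC, (g : G) * x * (g : G)⁻¹ = y := by
  obtain ⟨g, hg⟩ := isConj_iff.1 hc
  have h1 : g * γ 1 * g⁻¹ = γ 1 := by
    have h2 : (g * x * g⁻¹) ^ m = g * x ^ m * g⁻¹ := conj_pow
    rw [hg, hx, hy] at h2
    exact h2.symm
  exact ⟨⟨g, h.mem_C.2 (mul_inv_eq_iff_eq_mul.1 h1)⟩, hg⟩

theorem a_comm (g : sub γ isC) : (g : G) * γ 1 = γ 1 * g := h.mem_C.1 g.2

/-- conjugation by an element of `Q0` -/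
theorem mask_eq {q s t : G} (hq : q ∈ Q0 γ) (hs : s ∈ Q0 γ) (hqs : q⁻¹ * s * q = t) {m k : ℕ}
    (hm : HM (γ 1) (cc γ) s m) (hk : HM (γ 1) (cc γ) t k) : m = k := by
  have h1 := conj_Q h hq hs hm
  rw [hqs] at h1
  exact unique h.data h1 hk

variable {f : sub γ isC →* alternatingGroup (Fin 9)} (F : Epi γ f)
include F

/-- the images of conjugate words -/
theorem tau_of {X Y : List ℕ} (hX : ∀ x ∈ X, isC x = true) (hY : ∀ x ∈ Y, isC x = true)
    {g : sub γ isC} (hg : (g : G) * ev γ X * (g : G)⁻¹ = ev γ Y) :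
    Equiv.Perm.sign ((f g : alternatingGroup (Fin 9)) : Equiv.Perm (Fin 9)) = 1 ∧
    ((f g : alternatingGroup (Fin 9)) : Equiv.Perm (Fin 9)) * pm9 X =
      pm9 Y * ((f g : alternatingGroup (Fin 9)) : Equiv.Perm (Fin 9)) := by
  refine ⟨Equiv.Perm.mem_alternatingGroup.1 (f g).2, ?_⟩
  rw [← F.word _ hX, ← F.word _ hY, ← Subgroup.coe_mul, ← Subgroup.coe_mul, ← map_mul, ← map_mul]
  congr 2
  exact Subtype.ext (mul_inv_eq_iff_eq_mul.1 hg)

theorem type_of {X Y : List ℕ} (hX : ∀ x ∈ X, isC x = true) (hY : ∀ x ∈ Y, isC x = true)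
    {g : sub γ isC} (hg : (g : G) * ev γ X * (g : G)⁻¹ = ev γ Y) :
    (pm9 X).cycleType = (pm9 Y).cycleType := by
  obtain ⟨-, h1⟩ := tau_of h F hX hY hg
  rw [← Equiv.Perm.cycleType_conj (σ := pm9 X)
    (τ := ((f g : alternatingGroup (Fin 9)) : Equiv.Perm (Fin 9))), h1, mul_inv_cancel_right]

/-- an element of `C` whose image is a power of the image of `x` -/
theorem exists_zpow {x g : sub γ isC} {k : ℤ} (hk : f g = f x ^ k) :
    ∃ q ∈ Q0 γ, (g : G) = (x : G) ^ k * q := by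
  refine ⟨((x ^ k)⁻¹ * g : sub γ isC), ?_, ?_⟩
  · rw [← mem_ker F, MonoidHom.mem_ker, map_mul, map_inv, map_zpow, hk, inv_mul_cancel]
  · change (g : G) = (x : G) ^ k * (((x : G) ^ k)⁻¹ * g)
    rw [mul_inv_cancel_left]

end

/-- two permutations which are conjugate under an odd but not under an even permutation -/
theorem no_even' {σ τ ρ : Equiv.Perm (Fin 9)}
    (hcent : ∀ c : Equiv.Perm (Fin 9), c * σ = σ * c → Equiv.Perm.sign c = 1)
    (h1 : ρ * σ = τ * ρ) (h2 : Equiv.Perm.sign ρ = -1) {π : Equiv.Perm (Fin 9)}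
    (hπ : Equiv.Perm.sign π = 1) (h3 : π * σ = τ * π) : False := by
  have h4 : (π⁻¹ * ρ) * σ = σ * (π⁻¹ * ρ) := by
    have h5 : π⁻¹ * τ = σ * π⁻¹ := by
      rw [inv_mul_eq_iff_eq_mul, ← mul_assoc, h3, mul_inv_cancel_right]
    calc (π⁻¹ * ρ) * σ = π⁻¹ * (ρ * σ) := mul_assoc _ _ _
      _ = (π⁻¹ * τ) * ρ := by rw [h1, mul_assoc]
      _ = σ * (π⁻¹ * ρ) := by rw [h5, mul_assoc]
  have h5 := hcent _ h4
  rw [map_mul, map_inv, hπ, h2] at h5
  exact absurd h5 (by decide)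

/-- the centralizer of a 9-cycle -/
theorem card_cent_nine {σ : Equiv.Perm (Fin 9)} (hσ : σ.cycleType = {9}) :
    Nat.card ↥(centralizer ({σ} : Set (Equiv.Perm (Fin 9)))) = 9 ∧ orderOf σ = 9 := by
  constructor
  · rw [Equiv.Perm.nat_card_centralizer, hσ]
    decide
  · rw [← Equiv.Perm.lcm_cycleType, hσ]
    decide

theorem sign_nine {σ : Equiv.Perm (Fin 9)} (hσ : σ.cycleType = {9}) : Equiv.Perm.sign σ = 1 := by
  rw [Equiv.Perm.sign_of_cycleType, hσ]
  decide

theorem even_of_comm_nine {σ : Equiv.Perm (Fin 9)} (hσ : σ.cycleType = {9})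
    (c : Equiv.Perm (Fin 9)) (hc : c * σ = σ * c) : Equiv.Perm.sign c = 1 := by
  obtain ⟨h1, h2⟩ := card_cent_nine hσ
  obtain ⟨k, rfl⟩ := eq_zpow (τ := σ) (by rw [h1, h2]) hc
  rw [map_zpow, sign_nine hσ, one_zpow]

/-- the centralizer of a 9-cycle in the alternating group -/
theorem card_cent_alt_nine {τ : alternatingGroup (Fin 9)}
    (hτ : (τ : Equiv.Perm (Fin 9)).cycleType = {9}) :
    Nat.card ↥(centralizer ({τ} : Set (alternatingGroup (Fin 9)))) ≤ orderOf τ := by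
  obtain ⟨h1, h2⟩ := card_cent_nine hτ
  have h4 : orderOf τ = 9 := by
    rw [← Subgroup.orderOf_coe]
    exact h2
  have h5 : Nat.card ↥(centralizer ({τ} : Set (alternatingGroup (Fin 9)))) ≤
      Nat.card ↥(centralizer ({(τ : Equiv.Perm (Fin 9))} : Set (Equiv.Perm (Fin 9)))) := by
    refine Nat.card_le_card_of_injective
      (fun x => ⟨((x : alternatingGroup (Fin 9)) : Equiv.Perm (Fin 9)), ?_⟩) ?_
    · rw [mem_centralizer_singleton_iff]
      have h3 := mem_centralizer_singleton_iff.1 x.2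
      exact congrArg Subtype.val h3
    · intro x y hxy
      have h6 := congrArg Subtype.val hxy
      exact Subtype.ext (Subtype.ext h6)
  omega

end Cfsg.Agent.H752.ThCl
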