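import Cfsg.Agent.H752.Th.Even

/-!
# `Th`: the classes of elements of orders 12, 18, 24, 36 (helper752)
-/

set_option autoImplicit false
set_option maxRecDepth 100000
set_option linter.unusedSectionVars false

namespace Cfsg.Agent.H752.ThCl

open Subgroup Cfsg Cfsg.Agent.H713 Cfsg.Agent.H665.NoPQ
open Cfsg.Agent.Th.Base Cfsg.Agent.Th.Word Cfsg.Agent.Th.RelWords Cfsg.Agent.Th.PermTab
  Cfsg.Agent.Th.KOracle Cfsg.Agent.Th.KPerm Cfsg.Agent.Th.NineAct Cfsg.Agent.Th.CStruct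
  Cfsg.Agent.Th.COracleDef Cfsg.Agent.Th.COracleSound
open Cfsg.Agent.KFacts.Th.Mask Cfsg.Agent.KFacts.Th.Struct
open Cfsg.Agent.CpAutTh.Data Cfsg.Agent.CpAutTh.Alt Cfsg.Agent.CpAutTh.Local Cfsg.Agent.CpAutTh.ThreePerm Cfsg.Agent.CpAutTh.ThreeE
open Cfsg.Agent.CpAutTh.Mid Cfsg.Agent.H723.Spor.ThMix

universe u v

/-! ### Words -/

def V13 : List ℕ := [10, 4, 7, 10, 5]
def V18 : List ℕ := [4, 5, 6, 10, 6]
def V9A : List ℕ := [4, 5, 6, 10, 6, 1]
def V9B : List ℕ := [4, 5, 6]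
/-- the elements of order 4 of `C_Q(x)` -/
def S36 : Fin 3 → List ℕ := ![[5, 7, 8], [3, 7], [3, 5, 8]]
def V36 (i : Fin 3) : List ℕ := V9A ++ wl (S36 i)
def S12 : Fin 2 → List ℕ := ![[1, 2], [3, 5, 8]]
def V12 (i : Fin 2) : List ℕ := X33 ++ wl (S12 i)
def V24 : Fin 2 → List ℕ := ![[8, 5] ++ wl [0, 1], [8, 4, 5, 10, 4, 5, 10, 5] ++ wl [0, 2]]
def V24A : List ℕ := [4, 7, 10]
def G24 : List ℕ := [6, 6, 10, 4, 10, 4, 6, 8, 10] ++ wl [6]

theorem cV13 : ∀ x ∈ V13, isC x = true := by decide +kernel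
theorem cV18 : ∀ x ∈ V18, isC x = true := by decide +kernel
theorem cV9A : ∀ x ∈ V9A, isC x = true := by decide +kernel
theorem cV9B : ∀ x ∈ V9B, isC x = true := by decide +kernel
theorem cV36 : ∀ i, ∀ x ∈ V36 i, isC x = true := by decide +kernel
theorem cV12 : ∀ i, ∀ x ∈ V12 i, isC x = true := by decide +kernel
theorem cV24 : ∀ i, ∀ x ∈ V24 i, isC x = true := by decide +kernel
theorem cV24A : ∀ x ∈ V24A, isC x = true := by decide +kernel
theorem cG24 : ∀ x ∈ G24, isC x = true := by decide +kernel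

theorem tV13 : (pm9 V13).cycleType = {9} := by decide +kernel
theorem tV18 : (pm9 V18).cycleType = {9} := by decide +kernel
theorem tV9A : (pm9 V9A).cycleType = {9} := by decide +kernel
theorem tV9B : (pm9 V9B).cycleType = {9} := by decide +kernel
theorem tV12 : ∀ i, (pm9 (V12 i)).cycleType = {3, 3} := by decide +kernel
theorem tV24 : ∀ i, (pm9 (V24 i)).cycleType = {2, 6} := by decide +kernel
theorem tV24A : (pm9 V24A).cycleType = {2, 3, 4} := by decide +kernel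

theorem aV13 : corc (pw V13 9 ++ [1]) = true := by decide +kernel
theorem aV18 : corc (pw V18 9 ++ [1]) = true := by decide +kernel
theorem aV36 : ∀ i, corc (pw (V36 i) 18 ++ [1]) = true := by decide +kernel
theorem aV12 : ∀ i, corc (pw (V12 i) 6 ++ [1]) = true := by decide +kernel
theorem aV24 : ∀ i, corc (pw (V24 i) 12 ++ [1]) = true := by decide +kernel
theorem aV24A : corc (pw V24A 12 ++ [1]) = true := by decide +kernel

theorem pV36 : ∀ i, corc (pw (V36 i) 28 ++ iw V9A) = true ∧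
    corc (pw (V36 i) 9 ++ iw (wl (S36 i))) = true ∧
    corc ((V9A ++ wl (S36 i)) ++ iw (wl (S36 i) ++ V9A)) = true := by decide +kernel
theorem pV12 : ∀ i, corc (pw (V12 i) 4 ++ iw X33) = true ∧
    corc (pw (V12 i) 9 ++ iw (wl (S12 i))) = true := by decide +kernel
theorem pV24 : ∀ i, corc (pw (V24 i) 16 ++ iw X33) = true ∧
    (corc (pw (V24 i) 18 ++ iw (wl (S12 i))) || corc (pw (V24 i) 18 ++ iw (wl (S12 i) ++ [1]))) = true := by
  decide +kernel

theorem lS36 : ∀ i, ∀ j ∈ S36 i, j < 9 := by decide +kernel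
theorem lS12 : ∀ i, ∀ j ∈ S12 i, j < 9 := by decide +kernel
theorem mS36 : ∀ i j, lmask (S36 i) = lmask (S36 j) → i = j := by decide +kernel

section

variable {G : Type u} [Group G] {γ : ℕ → G} (h : Ctx γ)
  {f : sub γ isC →* alternatingGroup (Fin 9)} (F : Epi γ f)
include h F

/-! ### Order 18 -/

theorem primes_23 {p a b : ℕ} (hp : p.Prime) (hd : p ∣ 2 ^ a * 3 ^ b) : p = 2 ∨ p = 3 := by
  rcases (Nat.Prime.dvd_mul hp).1 hd with h1 | h1
  · exact Or.inl ((Nat.prime_dvd_prime_iff_eq hp Nat.prime_two).1 (hp.dvd_of_dvd_pow h1))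
  · exact Or.inr ((Nat.prime_dvd_prime_iff_eq hp Nat.prime_three).1 (hp.dvd_of_dvd_pow h1))

theorem ordV {W : List ℕ} (hW : ∀ x ∈ W, isC x = true) {n a b : ℕ} (hn : 0 < n) (hab : 2 * n = 2 ^ a * 3 ^ b)
    (h1 : corc (pw W n ++ [1]) = true) (h3 : (pm9 W) ^ (2 * n / 3) ≠ 1) : orderOf (ev γ W) = 2 * n :=
  ord_W h F hW hn h1 fun p hp hd => by
    rcases primes_23 h F hp (hab ▸ hd) with rfl | rfl
    · exact Or.inl rfl
    · exact Or.inr h3

def rho18 : Equiv.Perm (Fin 9) := Equiv.swap 2 5 * (Equiv.swap 4 8 * Equiv.swap 6 7)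

omit h F in
theorem rho18_conj : rho18 * pm9 V13 = pm9 V18 * rho18 := by decide +kernel

omit h F in
theorem rho18_sign : Equiv.Perm.sign rho18 = -1 := by decide +kernel

def g18 (γ : ℕ → G) : Fin 2 → G := ![ev γ V13, ev γ V18]

theorem ord18 (i : Fin 2) : orderOf (g18 γ i) = 18 := by
  fin_cases i
  · exact ordV h F cV13 (n := 9) (a := 1) (b := 2) (by norm_num) (by norm_num) aV13 (by decide +kernel)
  · exact ordV h F cV18 (n := 9) (a := 1) (b := 2) (by norm_num) (by norm_num) aV18 (by decide +kernel)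

theorem not_conj18 (hc : IsConj (ev γ V13) (ev γ V18)) : False := by
  obtain ⟨g, hg⟩ := conj_C h (pow_a' h aV13) (pow_a' h aV18) hc
  obtain ⟨h1, h2⟩ := tau_of h F cV13 cV18 hg
  exact no_even' (even_of_comm_nine tV13) rho18_conj rho18_sign h1 h2

theorem sep18 (i j : Fin 2) (hc : IsConj (g18 γ i) (g18 γ j)) : i = j := by
  fin_cases i <;> fin_cases j
  · rfl
  · exact (not_conj18 h F hc).elim
  · exact (not_conj18 h F hc.symm).elim
  · rfl

/-! ### Order 36 -/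

def g36 (γ : ℕ → G) (i : Fin 3) : G := ev γ (V36 i)

theorem ord36 (i : Fin 3) : orderOf (g36 γ i) = 36 :=
  ordV h F (cV36 i) (n := 18) (a := 2) (b := 2) (by norm_num) (by norm_num) (aV36 i)
    (by revert i; decide +kernel)

/-- the image of an element commuting with a word which is a 9-cycle -/
theorem nine_form {X : List ℕ} (hX : ∀ x ∈ X, isC x = true) (ht : (pm9 X).cycleType = {9}) {g : sub γ isC}
    (hg : (g : G) * ev γ X = ev γ X * g) : ∃ (k : ℤ) (q : G), q ∈ Q0 γ ∧ (g : G) = ev γ X ^ k * q := by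
  let x : sub γ isC := ⟨ev γ X, ev_mem_sub hX⟩
  have h1 : ((f x : alternatingGroup (Fin 9)) : Equiv.Perm (Fin 9)).cycleType = {9} := by
    rw [F.word X hX]; exact ht
  obtain ⟨k, hk⟩ := eq_zpow (τ := f x) (c := f g) (card_cent_alt_nine h1) (by
    rw [← map_mul, ← map_mul]
    exact congrArg f (Subtype.ext hg))
  obtain ⟨q, hq, h2⟩ := exists_zpow h F hk
  exact ⟨k, q, hq, h2⟩

theorem sep36 (i j : Fin 3) (hc : IsConj (g36 γ i) (g36 γ j)) : i = j := by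
  obtain ⟨g, hg⟩ := conj_C h (pow_a' h (aV36 i)) (pow_a' h (aV36 j)) hc
  have hg' : (g : G) * g36 γ i * (g : G)⁻¹ = g36 γ j := hg
  have hpow : ∀ m : ℕ, (g : G) * g36 γ i ^ m * (g : G)⁻¹ = g36 γ j ^ m := by
    intro m
    rw [← hg']
    exact conj_pow.symm
  have h1 := hpow 28
  rw [g36, g36, pow_eq h (pV36 i).1, pow_eq h (pV36 j).1] at h1
  have h2 := hpow 9
  rw [g36, g36, pow_eq h (pV36 i).2.1, pow_eq h (pV36 j).2.1] at h2
  obtain ⟨k, q, hq, hgq⟩ := nine_form h F cV9A tV9A (mul_inv_eq_iff_eq_mul.1 h1)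
  have h3 := ev_eq h (pV36 j).2.2
  rw [ev_append, ev_append] at h3
  have h4 : Commute (ev γ V9A ^ k) (ev γ (wl (S36 j))) := (show Commute (ev γ V9A) _ from h3).zpow_left k
  obtain ⟨h5, h6⟩ := wl_mem h _ (lS36 j)
  obtain ⟨h7, h8⟩ := wl_mem h _ (lS36 i)
  have h9 : q⁻¹ * ev γ (wl (S36 j)) * q = ev γ (wl (S36 i)) := by
    have h10 : (ev γ V9A ^ k)⁻¹ * ev γ (wl (S36 j)) * ev γ V9A ^ k = ev γ (wl (S36 j)) := by
      rw [mul_assoc, ← h4.eq, inv_mul_cancel_left]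
    calc q⁻¹ * ev γ (wl (S36 j)) * q =
        q⁻¹ * ((ev γ V9A ^ k)⁻¹ * ev γ (wl (S36 j)) * ev γ V9A ^ k) * q := by rw [h10]
      _ = (ev γ V9A ^ k * q)⁻¹ * ev γ (wl (S36 j)) * (ev γ V9A ^ k * q) := by group
      _ = (g : G)⁻¹ * ev γ (wl (S36 j)) * g := by rw [hgq]
      _ = ev γ (wl (S36 i)) := by rw [← h2]; group
  exact (mS36 j i (mask_eq h hq h5 h9 h6 h8)).symm

/-! ### Order 12 -/

/-- the masks of the second quaternion group -/
def M2 : List ℕ := [215, 303, 504]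

omit h F in
theorem M2_check : (∀ m ∈ M2, Lf (Mt T33) 9 m ∈ M2) ∧ (∀ m ∈ M2, Lf (Mt Tc) 9 m ∈ M2) ∧
    (∀ m ∈ M2, Lf (Mt Tu) 9 m ∈ M2) ∧ (∀ m ∈ M2, Lf (Mt Tb) 9 m ∈ M2) := by decide +kernel

omit h F in
theorem iter_mem {T : Tab} (hT : ∀ m ∈ M2, Lf (Mt T) 9 m ∈ M2) (n : ℕ) : ∀ m ∈ M2, (Lf (Mt T) 9)^[n] m ∈ M2 := by
  induction n with
  | zero => exact fun m hm => hm
  | succ n ih =>
    intro m hm
    rw [Function.iterate_succ_apply']
    exact hT _ (ih m hm)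

/-- the elements of `C` commuting with `x33` preserve the second quaternion group -/
theorem mask_M2 {g : sub γ isC} (hg : (g : G) * ev γ X33 = ev γ X33 * g) {t : G} (ht : t ∈ Q0 γ) {m : ℕ}
    (hm : m ∈ M2) (htm : HM (γ 1) (cc γ) t m) : ∃ m' ∈ M2, HM (γ 1) (cc γ) ((g : G)⁻¹ * t * g) m' := by
  obtain ⟨m1, m2, m3, m4⟩ := M2_check
  have h1 : ((f g : alternatingGroup (Fin 9)) : Equiv.Perm (Fin 9)) * sg =
      sg * ((f g : alternatingGroup (Fin 9)) : Equiv.Perm (Fin 9)) := by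
    show _ * pm9 X33 = pm9 X33 * _
    rw [← F.word _ c33, ← Subgroup.coe_mul, ← Subgroup.coe_mul, ← map_mul, ← map_mul]
    congr 2
    exact Subtype.ext hg
  obtain ⟨i, k, e, j, h2⟩ := exists_form h1 (Equiv.Perm.mem_alternatingGroup.1 (f g).2)
  let w : sub γ isC := ⟨ev γ X33, ev_mem_sub c33⟩ ^ (i : ℕ) * ⟨ev γ Wc, ev_mem_sub cc_c⟩ ^ (k : ℕ) *
    ⟨ev γ Wu, ev_mem_sub cc_u⟩ ^ (e : ℕ) * ⟨ev γ Wb, ev_mem_sub cc_b⟩ ^ (j : ℕ)
  have h3 : f g = f w := by
    apply Subtype.ext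
    rw [h2]
    simp only [w, map_mul, map_pow, Subgroup.coe_mul, Subgroup.coe_pow]
    rw [F.word _ c33, F.word _ cc_c, F.word _ cc_u, F.word _ cc_b]
    rfl
  have h4 : w⁻¹ * g ∈ f.ker := by
    rw [MonoidHom.mem_ker, map_mul, map_inv, h3, inv_mul_cancel]
  have h5 : ((w : G)⁻¹ * g) ∈ Q0 γ := (mem_ker F).1 h4
  have a1 := conj_pow' h c33 chk33 i ht htm
  have a2 := conj_pow' h cc_c chkc k a1.1 a1.2
  have a3 := conj_pow' h cc_u chku e a2.1 a2.2
  have a4 := conj_pow' h cc_b chkb j a3.1 a3.2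
  refine ⟨_, iter_mem m4 j _ (iter_mem m3 e _ (iter_mem m2 k _ (iter_mem m1 i _ hm))), ?_⟩
  have h6 := conj_Q h h5 a4.1 a4.2
  have h7 : ((w : G)⁻¹ * g)⁻¹ * ((ev γ Wb ^ (j : ℕ))⁻¹ * ((ev γ Wu ^ (e : ℕ))⁻¹ * ((ev γ Wc ^ (k : ℕ))⁻¹ *
      ((ev γ X33 ^ (i : ℕ))⁻¹ * t * ev γ X33 ^ (i : ℕ)) * ev γ Wc ^ (k : ℕ)) * ev γ Wu ^ (e : ℕ)) *
      ev γ Wb ^ (j : ℕ)) * ((w : G)⁻¹ * g) = (g : G)⁻¹ * t * g := by
    have h8 : (w : G) = ev γ X33 ^ (i : ℕ) * ev γ Wc ^ (k : ℕ) * ev γ Wu ^ (e : ℕ) * ev γ Wb ^ (j : ℕ) := rfl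
    rw [h8]
    group
  rw [h7] at h6
  exact h6

/-- the masks of the first and of the second quaternion group -/
theorem no_mix {y y' : G} {g : sub γ isC} (hg : (g : G) * y * (g : G)⁻¹ = y') {a b : ℕ}
    (h1 : y ^ a = ev γ X33) (h2 : y' ^ a = ev γ X33) (h3 : y ^ b ∈ Q0 γ) (h4 : y' ^ b ∈ Q0 γ)
    (h5 : HM (γ 1) (cc γ) (y ^ b) 6) (h6 : HM (γ 1) (cc γ) (y' ^ b) 215) : False := by
  have hpow : ∀ m : ℕ, (g : G) * y ^ m * (g : G)⁻¹ = y' ^ m := by
    intro m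
    rw [← hg]
    exact conj_pow.symm
  have h7 := hpow a
  rw [h1, h2] at h7
  obtain ⟨m', hm', h8⟩ := mask_M2 h F (mul_inv_eq_iff_eq_mul.1 h7) h4 (m := 215) (by decide) h6
  have h9 : (g : G)⁻¹ * y' ^ b * g = y ^ b := by
    rw [← hpow b]; group
  rw [h9] at h8
  have h10 := unique h.data h8 h5
  rw [h10] at hm'
  exact absurd hm' (by decide)

def g12 (γ : ℕ → G) : Fin 4 → G :=
  ![ev γ (V12 0), ev γ (V12 1), ev γ (H904.SV.Th.wd 9), ev γ (H904.SV.Th.wd 11)]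

theorem ord12 (i : Fin 4) : orderOf (g12 γ i) = 12 := by
  fin_cases i
  · exact ordV h F (cV12 0) (n := 6) (a := 2) (b := 1) (by norm_num) (by norm_num) (aV12 0) (by decide +kernel)
  · exact ordV h F (cV12 1) (n := 6) (a := 2) (b := 1) (by norm_num) (by norm_num) (aV12 1) (by decide +kernel)
  · exact H904.SV.Th.ord h F 9
  · exact H904.SV.Th.ord h F 11

theorem mask12 (i : Fin 2) : ev γ (V12 i) ^ 9 ∈ Q0 γ ∧ HM (γ 1) (cc γ) (ev γ (V12 i) ^ 9) (lmask (S12 i)) := by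
  rw [pow_eq h (pV12 i).2]
  exact wl_mem h _ (lS12 i)

theorem not_conj12 (hc : IsConj (ev γ (V12 0)) (ev γ (V12 1))) : False := by
  obtain ⟨g, hg⟩ := conj_C h (pow_a' h (aV12 0)) (pow_a' h (aV12 1)) hc
  exact no_mix h F hg (pow_eq h (pV12 0).1) (pow_eq h (pV12 1).1) (mask12 h F 0).1 (mask12 h F 1).1
    (mask12 h F 0).2 (mask12 h F 1).2

theorem type_ne {X Y : List ℕ} (hX : ∀ x ∈ X, isC x = true) (hY : ∀ x ∈ Y, isC x = true) {m : ℕ}
    (h1 : corc (pw X m ++ [1]) = true) (h2 : corc (pw Y m ++ [1]) = true)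
    (hne : (pm9 X).cycleType ≠ (pm9 Y).cycleType) (hc : IsConj (ev γ X) (ev γ Y)) : False := by
  obtain ⟨g, hg⟩ := conj_C h (pow_a' h h1) (pow_a' h h2) hc
  exact hne (type_of h F hX hY hg)

theorem sep12 (i j : Fin 4) (hc : IsConj (g12 γ i) (g12 γ j)) : i = j := by
  have w9 := H904.SV.Th.wd_isC 9
  have w11 := H904.SV.Th.wd_isC 11
  have p9 := H904.SV.Th.wd_pow 9
  have p11 := H904.SV.Th.wd_pow 11
  have h01 := not_conj12 h F
  have h02 := fun k => type_ne h F (cV12 k) w9 (aV12 k) p9 (by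
    rw [tV12, H904.SV.Th.wd_ty]; decide)
  have h03 := fun k => type_ne h F (cV12 k) w11 (aV12 k) p11 (by
    rw [tV12, H904.SV.Th.wd_ty]; decide)
  have h23 := type_ne h F w9 w11 p9 p11 (by
    rw [H904.SV.Th.wd_ty, H904.SV.Th.wd_ty]; decide)
  fin_cases i <;> fin_cases j
  · rfl
  · exact (h01 hc).elim
  · exact (h02 0 hc).elim
  · exact (h03 0 hc).elim
  · exact (h01 hc.symm).elim
  · rfl
  · exact (h02 1 hc).elim
  · exact (h03 1 hc).elim
  · exact (h02 0 hc.symm).elim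
  · exact (h02 1 hc.symm).elim
  · rfl
  · exact (h23 hc).elim
  · exact (h03 0 hc.symm).elim
  · exact (h03 1 hc.symm).elim
  · exact (h23 hc.symm).elim
  · rfl

/-! ### Order 24 -/

def g24 (γ : ℕ → G) : Fin 4 → G :=
  ![ev γ (V24 0), ev γ (V24 1), ev γ V24A, ev γ V24A ^ 19]

theorem ord24A : orderOf (ev γ V24A) = 24 :=
  ordV h F cV24A (n := 12) (a := 3) (b := 1) (by norm_num) (by norm_num) aV24A (by decide +kernel)

theorem ord24 (i : Fin 4) : orderOf (g24 γ i) = 24 := by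
  fin_cases i
  · exact ordV h F (cV24 0) (n := 12) (a := 3) (b := 1) (by norm_num) (by norm_num) (aV24 0) (by decide +kernel)
  · exact ordV h F (cV24 1) (n := 12) (a := 3) (b := 1) (by norm_num) (by norm_num) (aV24 1) (by decide +kernel)
  · exact ord24A h F
  · show orderOf (ev γ V24A ^ 19) = 24
    have h1 := ord24A h F
    rw [Nat.Coprime.orderOf_pow (by rw [h1]; decide), h1]

theorem mask24 (i : Fin 2) : ev γ (V24 i) ^ 18 ∈ Q0 γ ∧ HM (γ 1) (cc γ) (ev γ (V24 i) ^ 18) (lmask (S12 i)) := by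
  obtain ⟨h1, h2⟩ := wl_mem h _ (lS12 i)
  have h3 := (pV24 i).2
  rw [Bool.or_eq_true] at h3
  rcases h3 with h3 | h3
  · rw [pow_eq h h3]
    exact ⟨h1, h2⟩
  · rw [pow_eq h h3, ev_append, ev_singleton]
    have h4 := mul h.data h1 h2 (mask_a h.data)
    rw [Nat.xor_zero] at h4
    exact ⟨Subgroup.mul_mem _ h1 h.a_mem, h4⟩

theorem not_conj24 (hc : IsConj (ev γ (V24 0)) (ev γ (V24 1))) : False := by
  obtain ⟨g, hg⟩ := conj_C h (pow_a' h (aV24 0)) (pow_a' h (aV24 1)) hc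
  exact no_mix h F hg (pow_eq h (pV24 0).1) (pow_eq h (pV24 1).1) (mask24 h F 0).1 (mask24 h F 1).1
    (mask24 h F 0).2 (mask24 h F 1).2

end

def T24 : Tab :=
  [([0, 3, 5, 8], true), ([0], false), ([0, 1, 4, 7], true), ([0, 4, 6, 7], true), ([0, 2, 3, 5], false),
   ([0, 1, 6, 7], false), ([0, 1, 4, 6], false), ([0, 2, 3, 8], true), ([0, 2, 5, 8], false)]

theorem chk24 : chk V24A T24 = true := by decide +kernel

theorem fix24 : allB 512 (fun m => or (par m) (or (Bool.not (Nat.beq (Lf (Mt T24) 9 m) m)) (Nat.beq 0 m))) =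
    true := by decide +kernel

theorem conj24 : corc (G24 ++ (V24A ++ (iw G24 ++ iw (pw V24A 7)))) = true := by decide +kernel

def tr24 : Equiv.Perm (Fin 9) := Equiv.swap 0 1

theorem tr24_comm : tr24 * pm9 V24A = pm9 V24A * tr24 := by decide +kernel
theorem tr24_sign : Equiv.Perm.sign tr24 = -1 := by decide +kernel

section

variable {G : Type u} [Group G] {γ : ℕ → G} (h : Ctx γ)
  {f : sub γ isC →* alternatingGroup (Fin 9)} (F : Epi γ f)
include h F

/-- the centralizer of the image of the element of order 24 -/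
theorem card_cent24 : Nat.card ↥(centralizer ({f ⟨ev γ V24A, ev_mem_sub cV24A⟩} :
    Set (alternatingGroup (Fin 9)))) ≤ orderOf (f ⟨ev γ V24A, ev_mem_sub cV24A⟩) := by
  have h1 : ((f ⟨ev γ V24A, ev_mem_sub cV24A⟩ : alternatingGroup (Fin 9)) : Equiv.Perm (Fin 9)) = pm9 V24A :=
    F.word _ cV24A
  have h2 := card_cent_alt (f ⟨ev γ V24A, ev_mem_sub cV24A⟩) tr24 tr24_sign (by rw [h1]; exact tr24_comm)
  rw [h1, Equiv.Perm.nat_card_centralizer, tV24A] at h2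
  have h3 : orderOf (f ⟨ev γ V24A, ev_mem_sub cV24A⟩) = 12 := by
    rw [← Subgroup.orderOf_coe, h1, ← Equiv.Perm.lcm_cycleType, tV24A]
    decide
  rw [h3]
  revert h2
  generalize Nat.card ↥(centralizer ({f ⟨ev γ V24A, ev_mem_sub cV24A⟩} : Set (alternatingGroup (Fin 9)))) = n
  intro h2
  have h4 : ((Fintype.card (Fin 9) - Multiset.sum {2, 3, 4}).factorial * Multiset.prod ({2, 3, 4} : Multiset ℕ) *
    (∏ n ∈ Multiset.toFinset ({2, 3, 4} : Multiset ℕ), (Multiset.count n {2, 3, 4}).factorial)) = 24 := by decide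
  rw [h4] at h2
  omega

theorem not_conj24A (hc : IsConj (ev γ V24A) (ev γ V24A ^ 19)) : False := by
  set y := ev γ V24A with hy
  have hya : y ^ 12 = γ 1 := pow_a' h aV24A
  have haa : γ 1 * γ 1 = 1 := h.aa
  have hy24 : y ^ 24 = 1 := by
    rw [show 24 = 12 + 12 from rfl, pow_add, hya, haa]
  obtain ⟨g, hg⟩ := conj_C h (m := 12) hya (by
    rw [← pow_mul, mul_comm, pow_mul, hya, show 19 = 2 * 9 + 1 from rfl, pow_succ, pow_mul, pow_two, haa,
      one_pow, one_mul]) hc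
  have h1 := ev_one h conj24
  rw [ev_append, ev_append, ev_append, ev_iw h.inv, ev_iw h.inv, ev_pw, ← hy] at h1
  set g0 := ev γ G24 with hg0
  have h2 : g0 * y * g0⁻¹ = y ^ 7 := by
    rw [← mul_inv_eq_one, ← h1]; group
  have h3 : g0⁻¹ * y * g0 = y ^ 7 := by
    have h4 : y = (g0 * y * g0⁻¹) ^ 7 := by
      rw [h2, ← pow_mul, show 7 * 7 = 24 * 2 + 1 from rfl, pow_succ, pow_mul, hy24, one_pow, one_mul]
    calc g0⁻¹ * y * g0 = g0⁻¹ * (g0 * y * g0⁻¹) ^ 7 * g0 := by rw [← h4]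
      _ = y ^ 7 := by rw [conj_pow]; group
  let x : sub γ isC := ⟨y, ev_mem_sub cV24A⟩
  let k0 : sub γ isC := ⟨g0, ev_mem_sub cG24⟩
  let k : sub γ isC := k0⁻¹ * g
  have h5 : (k : G) * y * (k : G)⁻¹ = y * γ 1 := by
    show (g0⁻¹ * (g : G)) * y * (g0⁻¹ * (g : G))⁻¹ = _
    calc (g0⁻¹ * (g : G)) * y * (g0⁻¹ * (g : G))⁻¹ = g0⁻¹ * (g * y * (g : G)⁻¹) * g0 := by group
      _ = g0⁻¹ * y ^ 19 * g0 := by rw [hg]
      _ = (g0⁻¹ * y * g0⁻¹⁻¹) ^ 19 := by rw [conj_pow]; group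
      _ = (y ^ 7) ^ 19 := by rw [inv_inv, h3]
      _ = y * γ 1 := by
        rw [← pow_mul, show 7 * 19 = 24 * 5 + (1 + 12) from rfl, pow_add, pow_mul, hy24, one_pow, one_mul,
          pow_add, pow_one, hya]
  have h6 : f k * f x = f x * f k := by
    have h7 : k * x * k⁻¹ = x * ⟨γ 1, h.Q_le h.a_mem⟩ := Subtype.ext h5
    have h8 : f ⟨γ 1, h.Q_le h.a_mem⟩ = 1 := by
      rw [← MonoidHom.mem_ker, mem_ker F]
      exact h.a_mem
    have h9 : f k * f x * (f k)⁻¹ = f x * f ⟨γ 1, h.Q_le h.a_mem⟩ := by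
      rw [← map_inv, ← map_mul, ← map_mul, ← map_mul, h7]
    rw [h8, mul_one] at h9
    exact mul_inv_eq_iff_eq_mul.1 h9
  obtain ⟨j, hj⟩ := eq_zpow (card_cent24 h F) h6
  obtain ⟨q, hq, hkq⟩ := exists_zpow h F hj
  have hkq' : (k : G) = y ^ j * q := hkq
  have hya' : y * γ 1 = γ 1 * y := h.mem_C.1 (ev_mem_sub cV24A)
  have h10 : q * y * q⁻¹ = y * γ 1 := by
    have h11 : (y ^ j)⁻¹ * (y * γ 1) * y ^ j = y * γ 1 := by
      have h12 : Commute (y ^ j) (y * γ 1) :=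
        ((Commute.refl y).zpow_left j).mul_right ((show Commute y (γ 1) from hya').zpow_left j)
      rw [mul_assoc, ← h12.eq, inv_mul_cancel_left]
    rw [← h11, ← h5, hkq']
    group
  -- the mask of `q`
  obtain ⟨m, hm⟩ := exists_mask h.data hq
  have h11 := conj_mask h chk24 q hq m hm
  have h12 : y⁻¹ * q * y = γ 1 * q := by
    have h13 : q * y = y * γ 1 * q := mul_inv_eq_iff_eq_mul.1 h10
    rw [mul_assoc, h13, mul_assoc, inv_mul_cancel_left]
  rw [← hy, h12] at h11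
  have h13 := mul h.data h.a_mem (mask_a h.data) hm
  rw [Nat.zero_xor] at h13
  have h14 := unique h.data h11 h13
  have h15 := (allB_iff _ _).mp fix24 m hm.1
  rw [par_eq h.data hq hm, Bool.false_or, h14, Nat.beq_refl, Bool.not_true, Bool.false_or, Nat.beq_eq] at h15
  subst h15
  have h16 : q * y = y * q := by
    rcases eq_of_zero h.data h.cardQ hq hm with h16 | h16
    · rw [h16, one_mul, mul_one]
    · rw [h16, hya']
  apply h.a1
  have h17 : q * y * q⁻¹ = y := by rw [h16, mul_inv_cancel_right]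
  rw [h17] at h10
  exact (mul_eq_left (a := y)).1 h10.symm

theorem sep24 (i j : Fin 4) (hc : IsConj (g24 γ i) (g24 γ j)) : i = j := by
  have hx2 : ∀ k, IsConj (ev γ (V24 k)) (ev γ V24A) → False := fun k => type_ne h F (cV24 k) cV24A (aV24 k) aV24A (by
    rw [tV24, tV24A]; decide)
  have hpw : ev γ V24A ^ 19 = ev γ (pw V24A 19) := (ev_pw γ V24A 19).symm
  have hx3 : ∀ k, IsConj (ev γ (V24 k)) (ev γ V24A ^ 19) → False := by
    intro k hc
    rw [hpw] at hc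
    exact type_ne h F (cV24 k) (Y := pw V24A 19) (by decide +kernel) (aV24 k) (by decide +kernel) (by
      rw [tV24]; decide +kernel) hc
  have h01 := not_conj24 h F
  have h23 := not_conj24A h F
  fin_cases i <;> fin_cases j
  · rfl
  · exact (h01 hc).elim
  · exact (hx2 0 hc).elim
  · exact (hx3 0 hc).elim
  · exact (h01 hc.symm).elim
  · rfl
  · exact (hx2 1 hc).elim
  · exact (hx3 1 hc).elim
  · exact (hx2 0 hc.symm).elim
  · exact (hx2 1 hc.symm).elim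
  · rfl
  · exact (h23 hc).elim
  · exact (hx3 0 hc.symm).elim
  · exact (hx3 1 hc.symm).elim
  · exact (h23 hc.symm).elim
  · rfl

end

end Cfsg.Agent.H752.ThCl
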