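import Cfsg.Agent.H752.Th.Odd

/-!
# `k(Th) ≥ 43` (helper752)
-/

set_option autoImplicit false
set_option maxRecDepth 100000
set_option linter.unusedSectionVars false

namespace Cfsg.Agent.H752.ThCl

open Subgroup Cfsg
open Cfsg.Agent.Th.Word Cfsg.Agent.KFacts.Th.Struct Cfsg.Agent.CpAutTh.Local
open Cfsg.Agent.H593.CCTh Cfsg.Agent.H964.NoHall Cfsg.Agent.Th.Gen248

universe u

set_option maxRecDepth 100000 in
theorem t_cube : Nat.beq (evN false (.pow (.g .t) 3)) (evN false .one) = true := by decide +kernel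

theorem exists_39 : ∃ g : Spor.Th, orderOf g = 39 := by
  have hz : orderOf (thE z13) = 13 := by
    have : Fact (Nat.Prime 13) := ⟨by norm_num⟩
    refine orderOf_eq_prime ?_ ?_
    · have h := thE_eq z13_pow
      rwa [thE_pow, thE_one] at h
    · have h := thE_ne z13_ne
      rwa [thE_one] at h
  have ht : orderOf (thE (.g .t)) = 3 := by
    have : Fact (Nat.Prime 3) := ⟨Nat.prime_three⟩
    refine orderOf_eq_prime ?_ ?_
    · have h := thE_eq t_cube
      rwa [thE_pow, thE_one] at h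
    · have h := thE_ne t_ne
      rwa [thE_one] at h
  have hzt : thE z13 * thE (.g .t) = thE (.g .t) * thE z13 := by
    have h := thE_eq z13_t
    rwa [thE_mul, thE_mul] at h
  refine ⟨thE z13 * thE (.g .t), ?_⟩
  rw [Commute.orderOf_mul_eq_mul_orderOf_of_coprime hzt (by rw [hz, ht]; decide), hz, ht]

/-- the numbers of classes -/
def nn : ℕ → ℕ
  | 1 => 1 | 2 => 1 | 3 => 3 | 4 => 2 | 5 => 1 | 6 => 3 | 7 => 1 | 8 => 2 | 9 => 2 | 10 => 1
  | 12 => 4 | 13 => 1 | 14 => 1 | 15 => 2 | 18 => 2 | 19 => 1 | 20 => 1 | 21 => 1 | 24 => 4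
  | 28 => 1 | 30 => 2 | 31 => 2 | 36 => 3 | 39 => 1 | _ => 0

theorem one_of {d : ℕ} (h : ∃ g : Spor.Th, orderOf g = d) : ∃ g : Fin 1 → Spor.Th, (∀ i, orderOf (g i) = d) ∧
    ∀ i j, IsConj (g i) (g j) → i = j := by
  obtain ⟨g, hg⟩ := h
  exact ⟨fun _ => g, fun _ => hg, fun i j _ => Subsingleton.elim i j⟩

/-- **`k(Th) ≥ 43`** -/
theorem k_ge_43 : 43 ≤ Nat.card (ConjClasses Spor.Th) := by
  have hfin := H904.SV.Th.fin_th
  have h := Cfsg.Agent.KFacts.Th.Main.ctx
  obtain ⟨f, F⟩ := exists_epi h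
  have h30 : ∀ n, n ∣ 30 → ∃ g : Spor.Th, orderOf g = n := fun n hn =>
    H419.Count.exists_order_of_dvd (x := ev Cfsg.Agent.Th.IndexUpper.gTh (H904.SV.Th.wd 18)) (by
      rw [H904.SV.Th.ord h F]; exact hn.trans (by decide))
  have hp : ∀ p : ℕ, p.Prime → p ∣ 90745943887872000 → ∃ g : Spor.Th, orderOf g = p := by
    intro p hp hd
    have : Fact p.Prime := ⟨hp⟩
    exact exists_prime_orderOf_dvd_card' p (by rw [H723.Spor.Th.card_th]; exact hd)
  have h21 : ∃ g : Spor.Th, orderOf g = 21 := by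
    obtain ⟨s, F', hs, hinj, hFs, hall⟩ := H904.SV.Th.exists_F
    exact ⟨_, (H904.SV.Th.card_sF hs hinj hFs hall H904.SV.Th.orderA (by norm_num) H904.SV.Th.cardA).1⟩
  -- classes of words of `wd`
  have hwd : ∀ (k : ℕ) (e : Fin k → Fin 21) (d : ℕ), Function.Injective e →
      (∀ i, 2 * H904.SV.Th.hf (e i) = d) → ∃ g : Fin k → Spor.Th, (∀ i, orderOf (g i) = d) ∧
      ∀ i j, IsConj (g i) (g j) → i = j := by
    intro k e d he hd
    refine ⟨fun i => ev Cfsg.Agent.Th.IndexUpper.gTh (H904.SV.Th.wd (e i)), fun i => ?_, fun i j hc => ?_⟩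
    · rw [H904.SV.Th.ord h F, hd]
    · exact he (H904.SV.Th.eq_of_conj h F hc)
  have key := count (G := Spor.Th)
    {1, 2, 3, 4, 5, 6, 7, 8, 9, 10, 12, 13, 14, 15, 18, 19, 20, 21, 24, 28, 30, 31, 36, 39} nn (by
    intro d hd
    simp only [Finset.mem_insert, Finset.mem_singleton] at hd
    rcases hd with rfl | rfl | rfl | rfl | rfl | rfl | rfl | rfl | rfl | rfl | rfl | rfl | rfl | rfl | rfl |
      rfl | rfl | rfl | rfl | rfl | rfl | rfl | rfl | rfl
    · exact one_of (h30 _ (by norm_num))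
    · exact hwd 1 ![0] 2 (by decide) (by decide)
    · exact ⟨g3 _, ord3 h F, sep3 h F⟩
    · exact hwd 2 ![1, 2] 4 (by decide) (by decide)
    · exact one_of (h30 _ (by norm_num))
    · exact hwd 3 ![3, 4, 5] 6 (by decide) (by decide)
    · exact one_of (hp _ (by norm_num) (by norm_num))
    · exact hwd 2 ![6, 7] 8 (by decide) (by decide)
    · exact ⟨g9 _, ord9 h F, sep9 h F⟩
    · exact hwd 1 ![8] 10 (by decide) (by decide)
    · exact ⟨g12 _, ord12 h F, sep12 h F⟩
    · exact one_of (hp _ (by norm_num) (by norm_num))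
    · exact hwd 1 ![12] 14 (by decide) (by decide)
    · exact ⟨g15 _, ord15 h F, sep15 h F⟩
    · exact ⟨g18 _, ord18 h F, sep18 h F⟩
    · exact one_of (hp _ (by norm_num) (by norm_num))
    · exact hwd 1 ![14] 20 (by decide) (by decide)
    · exact one_of h21
    · exact ⟨g24 _, ord24 h F, sep24 h F⟩
    · exact hwd 1 ![17] 28 (by decide) (by decide)
    · exact hwd 2 ![18, 20] 30 (by decide) (by decide)
    · exact exists_31
    · exact ⟨g36 _, ord36 h F, sep36 h F⟩
    · exact one_of exists_39)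
  exact key

/-- **`k(Th) ≥ 43`** -/
theorem k_th {G : Type u} [Group G] [Finite G] (h : Spor.IsoTh G) : 43 ≤ Nat.card (ConjClasses G) := by
  obtain ⟨e⟩ := h
  have h1 : Nat.card (ConjClasses G) = Nat.card (ConjClasses Spor.Th) := by
    refine Nat.card_congr
      { toFun := ConjClasses.map e.toMonoidHom
        invFun := ConjClasses.map e.symm.toMonoidHom
        left_inv := ?_
        right_inv := ?_ }
    · rintro ⟨x⟩
      show ConjClasses.mk (e.symm (e x)) = ConjClasses.mk x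
      rw [e.symm_apply_apply]
    · rintro ⟨x⟩
      show ConjClasses.mk (e (e.symm x)) = ConjClasses.mk x
      rw [e.apply_symm_apply]
  rw [h1]
  exact k_ge_43

end Cfsg.Agent.H752.ThCl
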