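import Cfsg.Agent.H752.Th.EvenB
import Cfsg.Agent.H904.SV.Th
import Cfsg.Agent.H444.ThLoc
import Cfsg.Agent.H593.CC.ThBig

/-!
# `Th`: the classes of elements of odd order, and `k(Th) ≥ 43` (helper752)
-/

set_option autoImplicit false
set_option maxRecDepth 100000
set_option linter.unusedSectionVars false

namespace Cfsg.Agent.H752.ThCl

open Subgroup Cfsg Cfsg.Agent.H713 Cfsg.Agent.H665.NoPQ
open Cfsg.Agent.Th.Base Cfsg.Agent.Th.Word Cfsg.Agent.Th.RelWords Cfsg.Agent.Th.PermTab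
  Cfsg.Agent.Th.KOracle Cfsg.Agent.Th.KPerm Cfsg.Agent.Th.NineAct Cfsg.Agent.Th.CStruct
  Cfsg.Agent.Th.COracleDef Cfsg.Agent.Th.COracleSound
open Cfsg.Agent.KFacts.Th.Mask Cfsg.Agent.KFacts.Th.Struct
open Cfsg.Agent.CpAutTh.Data Cfsg.Agent.CpAutTh.Alt Cfsg.Agent.CpAutTh.Local Cfsg.Agent.CpAutTh.ThreePerm Cfsg.Agent.CpAutTh.ThreeE
open Cfsg.Agent.CpAutTh.Mid Cfsg.Agent.CpAutTh.RankOne Cfsg.Agent.H723.Spor.ThMix

universe u v

def T9B : Tab :=
  [([6], false), ([0], false), ([1], false), ([7], false), ([8], false), ([3], false), ([5], false),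
   ([4], false), ([2], false)]

theorem chk9B : chk V9B T9B = true := by decide +kernel

theorem fix9B : allB 512 (fun m => or (par m) (or (Bool.not (Nat.beq (Lf (Mt T9B) 9 m) m))
    (([0] : List ℕ).any fun k => Nat.beq k m))) = true := by decide +kernel

def rho9 : Equiv.Perm (Fin 9) := Equiv.swap 3 7 * (Equiv.swap 7 5 * (Equiv.swap 5 6 * (Equiv.swap 6 8 * Equiv.swap 8 4)))

theorem rho9_conj : rho9 * pm9 V9A = pm9 V9B * rho9 := by decide +kernel
theorem rho9_sign : Equiv.Perm.sign rho9 = -1 := by decide +kernel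

theorem p9A : corc (pw V9A 9 ++ iw []) = true := by decide +kernel
theorem p9B : corc (pw V9B 9 ++ iw []) = true := by decide +kernel

section

variable {G : Type u} [Group G] {γ : ℕ → G} (h : Ctx γ)

/-- if `a` is the only involution of `C(x') ∩ C(a)` then elements conjugate to `x'` and commuting with `a` are
conjugate to `x'` in `C(a)` -/
theorem lift_conj (h : Ctx γ) {x x' : G} (hx : x * γ 1 = γ 1 * x) (hx' : x' * γ 1 = γ 1 * x')
    (hinv : ∀ w : G, orderOf w = 2 → w * γ 1 = γ 1 * w → w * x' = x' * w → w = γ 1)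
    (hc : IsConj x x') : ∃ g : sub γ isC, (g : G) * x * (g : G)⁻¹ = x' := by
  have hfin := h.fin
  obtain ⟨g, hg⟩ := isConj_iff.1 hc
  have ha2 : orderOf (γ 1) = 2 := by
    have : Fact (Nat.Prime 2) := ⟨Nat.prime_two⟩
    exact orderOf_eq_prime (by rw [pow_two]; exact h.aa) h.a1
  set H : Subgroup G := centralizer ({x'} : Set G) with hH
  let a' : ↥H := ⟨γ 1, mem_centralizer_singleton_iff.2 hx'.symm⟩
  have ha' : orderOf a' = 2 := by rw [Subgroup.orderOf_mk, ha2]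
  obtain ⟨-, h1⟩ := uInv_of_unique (s := a') ha' (by
    intro u hu huc
    apply Subtype.ext
    refine hinv u ?_ (congrArg Subtype.val huc) (mem_centralizer_singleton_iff.1 u.2)
    rw [Subgroup.orderOf_coe, hu])
  have h2 : g * γ 1 * g⁻¹ ∈ H := by
    rw [hH, mem_centralizer_singleton_iff, ← hg]
    calc g * γ 1 * g⁻¹ * (g * x * g⁻¹) = g * (γ 1 * x) * g⁻¹ := by group
      _ = g * x * g⁻¹ * (g * γ 1 * g⁻¹) := by rw [← hx]; group
  obtain ⟨k, hk⟩ := h1 ⟨g * γ 1 * g⁻¹, h2⟩ (by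
    rw [Subgroup.orderOf_mk, ← ha2]
    exact MulEquiv.orderOf_eq (MulAut.conj g) (γ 1))
  have hk' : (k : G) * γ 1 * (k : G)⁻¹ = g * γ 1 * g⁻¹ := congrArg Subtype.val hk
  have h3 : ((k : G)⁻¹ * g) * γ 1 = γ 1 * ((k : G)⁻¹ * g) := by
    rw [← mul_inv_eq_iff_eq_mul]
    calc (k : G)⁻¹ * g * γ 1 * ((k : G)⁻¹ * g)⁻¹ = (k : G)⁻¹ * (g * γ 1 * g⁻¹) * k := by group
      _ = (k : G)⁻¹ * ((k : G) * γ 1 * (k : G)⁻¹) * k := by rw [hk']
      _ = γ 1 := by group
  refine ⟨⟨(k : G)⁻¹ * g, h.mem_C.2 h3⟩, ?_⟩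
  have h4 := mem_centralizer_singleton_iff.1 k.2
  show (k : G)⁻¹ * g * x * ((k : G)⁻¹ * g)⁻¹ = x'
  calc (k : G)⁻¹ * g * x * ((k : G)⁻¹ * g)⁻¹ = (k : G)⁻¹ * (g * x * g⁻¹) * k := by group
    _ = (k : G)⁻¹ * (x' * k) := by rw [hg, mul_assoc]
    _ = x' := by rw [← h4, inv_mul_cancel_left]

variable {f : sub γ isC →* alternatingGroup (Fin 9)} (F : Epi γ f)
include h F

/-! ### Order 3 -/

def g3 (γ : ℕ → G) : Fin 3 → G := ![ev γ X33, ev γ X3, ev γ X333]

theorem ord3 (i : Fin 3) : orderOf (g3 γ i) = 3 := by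
  fin_cases i
  · have := o33 h F
    rwa [Subgroup.orderOf_mk] at this
  · have := o3 h F
    rwa [Subgroup.orderOf_mk] at this
  · have := o333 h F
    rwa [Subgroup.orderOf_mk] at this

theorem word_comm {X : List ℕ} (hX : ∀ x ∈ X, isC x = true) : ev γ X * γ 1 = γ 1 * ev γ X :=
  h.mem_C.1 (ev_mem_sub hX)

theorem ne_of_inv {X Y : List ℕ} (hX : ∀ x ∈ X, isC x = true) (hY : ∀ x ∈ Y, isC x = true)
    (hinv : ∀ w : G, orderOf w = 2 → w * γ 1 = γ 1 * w → w * ev γ Y = ev γ Y * w → w = γ 1)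
    (hne : (pm9 X).cycleType ≠ (pm9 Y).cycleType) (hc : IsConj (ev γ X) (ev γ Y)) : False := by
  obtain ⟨g, hg⟩ := lift_conj h (word_comm h F hX) (word_comm h F hY) hinv hc
  exact hne (type_of h F hX hY hg)

theorem sep3 (i j : Fin 3) (hc : IsConj (g3 γ i) (g3 γ j)) : i = j := by
  have h01 := ne_of_inv h F c33 c3 (fun w h1 h2 h3 => inv_three h F h1 h2 h3) (by
    rw [t33, t3]; decide)
  have h02 := ne_of_inv h F c33 c333 (fun w h1 h2 h3 => inv_triple h F h1 h2 h3) (by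
    rw [t33, t333]; decide)
  have h12 := ne_of_inv h F c3 c333 (fun w h1 h2 h3 => inv_triple h F h1 h2 h3) (by
    rw [t3, t333]; decide)
  fin_cases i <;> fin_cases j
  · rfl
  · exact (h01 hc).elim
  · exact (h02 hc).elim
  · exact (h01 hc.symm).elim
  · rfl
  · exact (h12 hc).elim
  · exact (h02 hc.symm).elim
  · exact (h12 hc.symm).elim
  · rfl

/-! ### Order 9 -/

def g9 (γ : ℕ → G) : Fin 2 → G := ![ev γ V9A, ev γ V9B]

theorem ord_nine {X : List ℕ} (hX : ∀ x ∈ X, isC x = true) (h1 : corc (pw X 9 ++ iw []) = true)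
    (ht : (pm9 X).cycleType = {9}) : orderOf (ev γ X) = 9 := by
  have h2 : ev γ X ^ 3 ^ (1 + 1) = 1 := pow_eq h h1
  have : Fact (Nat.Prime 3) := ⟨Nat.prime_three⟩
  refine orderOf_eq_prime_pow (p := 3) (n := 1) ?_ h2
  intro h3
  have h4 : (pm9 X) ^ 3 = 1 := by
    by_contra hne
    exact pow_ne F hX hne (by simpa using h3)
  have h5 := orderOf_dvd_of_pow_eq_one h4
  rw [(card_cent_nine ht).2] at h5
  norm_num at h5

theorem ord9 (i : Fin 2) : orderOf (g9 γ i) = 9 := by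
  fin_cases i
  · exact ord_nine h F cV9A p9A tV9A
  · exact ord_nine h F cV9B p9B tV9B

theorem inv_nine {s : G} (hs : orderOf s = 2) (hsa : s * γ 1 = γ 1 * s) (hsx : s * ev γ V9B = ev γ V9B * s) :
    s = γ 1 := by
  have hq := inv_mem h F cV9B (fun σ h2 _ hc => by
    obtain ⟨h3, h4⟩ := card_cent_nine tV9B
    obtain ⟨k, rfl⟩ := eq_zpow (τ := pm9 V9B) (by rw [h3, h4]) hc
    have h5 : orderOf (pm9 V9B ^ k) ∣ orderOf (pm9 V9B) :=
      orderOf_dvd_of_mem_zpowers (mem_zpowers_iff.2 ⟨k, rfl⟩)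
    rw [h2, h4] at h5
    norm_num at h5) hs hsa hsx
  rcases inv_ker h chk9B fix9B hq hsx with h1 | h1
  · rw [h1, orderOf_one] at hs
    norm_num at hs
  · exact h1

theorem not_conj9 (hc : IsConj (ev γ V9A) (ev γ V9B)) : False := by
  obtain ⟨g, hg⟩ := lift_conj h (word_comm h F cV9A) (word_comm h F cV9B) (fun w h1 h2 h3 => inv_nine h F h1 h2 h3) hc
  obtain ⟨h1, h2⟩ := tau_of h F cV9A cV9B hg
  exact no_even' (even_of_comm_nine tV9A) rho9_conj rho9_sign h1 h2

theorem sep9 (i j : Fin 2) (hc : IsConj (g9 γ i) (g9 γ j)) : i = j := by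
  fin_cases i <;> fin_cases j
  · rfl
  · exact (not_conj9 h F hc).elim
  · exact (not_conj9 h F hc.symm).elim
  · rfl

/-! ### Order 15 -/

def g15 (γ : ℕ → G) : Fin 2 → G := ![ev γ (H904.SV.Th.wd 20) ^ 2, ev γ (H904.SV.Th.wd 18) ^ 2]

theorem ord15 (i : Fin 2) : orderOf (g15 γ i) = 15 := by
  fin_cases i
  · have h1 : orderOf (ev γ (H904.SV.Th.wd 20)) = 30 := H904.SV.Th.ord h F 20
    exact (orderOf_pow_of_dvd (by norm_num) (by rw [h1]; norm_num)).trans (by rw [h1])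
  · have h1 : orderOf (ev γ (H904.SV.Th.wd 18)) = 30 := H904.SV.Th.ord h F 18
    exact (orderOf_pow_of_dvd (by norm_num) (by rw [h1]; norm_num)).trans (by rw [h1])

theorem not_conj15 (hc : IsConj (ev γ (H904.SV.Th.wd 20) ^ 2) (ev γ (H904.SV.Th.wd 18) ^ 2)) : False := by
  have hfin := h.fin
  set u := ev γ (H904.SV.Th.wd 18) with hu
  set v := ev γ (H904.SV.Th.wd 20) with hv
  have hu15 : u ^ 15 = γ 1 := H904.SV.Th.pow_a h 18
  have hv15 : v ^ 15 = γ 1 := H904.SV.Th.pow_a h 20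
  have hu30 : orderOf u = 30 := H904.SV.Th.ord h F 18
  have hrec : ∀ y : G, y ^ 15 = γ 1 → y = (y ^ 2) ^ 8 * γ 1 := by
    intro y hy
    rw [← hy, ← pow_mul, ← pow_add, show 2 * 8 + 15 = 15 + 15 + 1 from rfl, pow_succ, pow_add, hy, h.aa, one_mul]
  have hua : u * γ 1 = γ 1 * u := word_comm h F (H904.SV.Th.wd_isC 18)
  have hva : v * γ 1 = γ 1 * v := word_comm h F (H904.SV.Th.wd_isC 20)
  have hpa : ∀ y : G, y * γ 1 = γ 1 * y → y ^ 2 * γ 1 = γ 1 * y ^ 2 := fun y hy =>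
    (Commute.pow_left (show Commute y (γ 1) from hy) 2).eq
  obtain ⟨g, hg⟩ := lift_conj h (hpa v hva) (hpa u hua) (by
    intro w hw hwa hwu
    have h1 : w * u = u * w := by
      have h2 : Commute w ((u ^ 2) ^ 8 * γ 1) :=
        (Commute.pow_right (show Commute w (u ^ 2) from hwu) 8).mul_right hwa
      rw [← hrec u hu15] at h2
      exact h2.eq
    obtain ⟨k, hk⟩ := eq_zpow (τ := u) (by rw [hu30]; exact H904.SV.Th.card30 h F) h1
    have h3 : u ^ (2 * k) = 1 := by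
      rw [mul_comm, zpow_mul, ← hk, zpow_two, ← pow_two, ← hw, pow_orderOf_eq_one]
    have h4 := orderOf_dvd_iff_zpow_eq_one.2 h3
    rw [hu30] at h4
    obtain ⟨c, hc⟩ := h4
    have h5 : k = 15 * c := by
      push_cast at hc
      omega
    have h6 : w = γ 1 ^ c := by
      rw [hk, h5, zpow_mul]
      congr 1
      exact_mod_cast hu15
    rcases Int.even_or_odd' c with ⟨d, hd | hd⟩
    · exfalso
      rw [h6, hd, zpow_mul, zpow_two, h.aa, one_zpow, orderOf_one] at hw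
      norm_num at hw
    · rw [h6, hd, zpow_add, zpow_mul, zpow_two, h.aa, one_zpow, one_mul, zpow_one]) hc
  have h1 : (g : G) * v * (g : G)⁻¹ = u := by
    have h2 : (g : G) * γ 1 * (g : G)⁻¹ = γ 1 := by
      rw [a_comm h g, mul_inv_cancel_right]
    calc (g : G) * v * (g : G)⁻¹ = g * ((v ^ 2) ^ 8 * γ 1) * (g : G)⁻¹ := by rw [← hrec v hv15]
      _ = (g * v ^ 2 * (g : G)⁻¹) ^ 8 * (g * γ 1 * (g : G)⁻¹) := by rw [conj_pow]; group
      _ = u := by rw [hg, h2, ← hrec u hu15]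
  have h2 := H904.SV.Th.eq_of_conj h F (i := 20) (j := 18) (isConj_iff.2 ⟨g, h1⟩)
  exact absurd h2 (by decide)

theorem sep15 (i j : Fin 2) (hc : IsConj (g15 γ i) (g15 γ j)) : i = j := by
  fin_cases i <;> fin_cases j
  · rfl
  · exact (not_conj15 h F hc).elim
  · exact (not_conj15 h F hc.symm).elim
  · rfl

end

/-! ### Order 31 -/

/-- elements with `|N(⟨x⟩)|` odd are not conjugate to their inverses -/
theorem not_real {G : Type u} [Group G] [Finite G] {x : G} (hx : 3 ≤ orderOf x)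
    (hN : Odd (Nat.card ↥(normalizer ((zpowers x : Subgroup G) : Set G)))) : ¬ IsConj x x⁻¹ := by
  intro hc
  obtain ⟨g, hg⟩ := isConj_iff.1 hc
  have h1 : g ∈ normalizer ((zpowers x : Subgroup G) : Set G) := by
    have h2 : ∀ y ∈ zpowers x, g * y * g⁻¹ = y⁻¹ := by
      intro y hy
      obtain ⟨k, rfl⟩ := mem_zpowers_iff.1 hy
      rw [← conj_zpow, hg, inv_zpow]
    rw [Subgroup.mem_normalizer_iff]
    intro y
    constructor
    · intro hy
      rw [h2 y hy]
      exact inv_mem hy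
    · intro hy
      have hfin : (zpowers x : Subgroup G).map (MulAut.conj g).toMonoidHom = zpowers x := by
        refine Subgroup.eq_of_le_of_card_ge ?_ ?_
        · rintro _ ⟨z, hz, rfl⟩
          have := h2 z hz
          show g * z * g⁻¹ ∈ zpowers x
          rw [this]
          exact inv_mem hz
        · rw [Subgroup.card_map_of_injective (MulAut.conj g).injective]
      have h3 : g * y * g⁻¹ ∈ (zpowers x : Subgroup G).map (MulAut.conj g).toMonoidHom := by
        rw [hfin]; exact hy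
      obtain ⟨z, hz, hzy⟩ := h3
      have h4 : g * z * g⁻¹ = g * y * g⁻¹ := hzy
      have h5 : z = y := mul_left_cancel (mul_right_cancel h4)
      exact h5 ▸ hz
  have h2 : Odd (orderOf g) := by
    have h3 : orderOf (⟨g, h1⟩ : ↥(normalizer ((zpowers x : Subgroup G) : Set G))) = orderOf g :=
      Subgroup.orderOf_mk g h1
    have h4 := orderOf_dvd_natCard (⟨g, h1⟩ : ↥(normalizer ((zpowers x : Subgroup G) : Set G)))
    rw [h3] at h4
    exact hN.of_dvd_nat h4
  obtain ⟨k, hk⟩ := h2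
  have h3 : Commute (g ^ 2) x := by
    have h4 : g ^ 2 * x * (g ^ 2)⁻¹ = x := by
      calc g ^ 2 * x * (g ^ 2)⁻¹ = g * (g * x * g⁻¹) * g⁻¹ := by rw [pow_two]; group
        _ = g * x⁻¹ * g⁻¹ := by rw [hg]
        _ = (g * x * g⁻¹)⁻¹ := by group
        _ = x := by rw [hg, inv_inv]
    exact mul_inv_eq_iff_eq_mul.1 h4
  have h4 : g = (g ^ 2) ^ (k + 1) := by
    rw [← pow_mul, show 2 * (k + 1) = orderOf g + 1 by omega, pow_succ, pow_orderOf_eq_one, one_mul]
  have h5 : Commute g x := by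
    rw [h4]
    exact h3.pow_left _
  have h6 : x = x⁻¹ := by
    rw [← hg, h5.eq, mul_inv_cancel_right]
  have h7 : x ^ 2 = 1 := by
    rw [pow_two]
    nth_rewrite 1 [h6]
    exact inv_mul_cancel x
  have h8 := Nat.le_of_dvd (by norm_num) (orderOf_dvd_of_pow_eq_one h7)
  omega

theorem exists_31 : ∃ g : Fin 2 → Spor.Th, (∀ i, orderOf (g i) = 31) ∧ ∀ i j, IsConj (g i) (g j) → i = j := by
  have hfin := H904.SV.Th.fin_th
  have : Fact (Nat.Prime 31) := ⟨by norm_num⟩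
  obtain ⟨x, hx⟩ : ∃ g : Spor.Th, orderOf g = 31 :=
    exists_prime_orderOf_dvd_card' 31 (by rw [H723.Spor.Th.card_th]; norm_num)
  have hN := (H444.ThLoc.cn31 (R := zpowers x) (by rw [Nat.card_zpowers, hx])).2
  have hnr := not_real (x := x) (by omega) (by rw [hN]; decide)
  refine ⟨![x, x⁻¹], fun i => ?_, fun i j hc => ?_⟩
  · fin_cases i
    · exact hx
    · exact (orderOf_inv x).trans hx
  · fin_cases i <;> fin_cases j
    · rfl
    · exact (hnr hc).elim
    · exact (hnr hc.symm).elim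
    · rfl

end Cfsg.Agent.H752.ThCl
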